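import Cfsg.Agent.QTComp.Two
import Cfsg.Agent.Omega.Sec.Basic
import Cfsg.Agent.S0071
import Cfsg.Agent.S0102
import Cfsg.Agent.S0120
import Cfsg.Agent.Lib.SolvableMinNormal

/-!
# Non-normal `𝒞`-components

`G` a finite group with `O_2(G) = 1` and `m_p(G) ≤ 2` for all odd primes `p`, `L` a `𝒞`-component with a conjugate
`M ≠ L`: the Sylow `p`-subgroups of `L` are cyclic for all odd `p`, and `L` is simple.
-/

set_option autoImplicit false

open scoped commutatorElement

namespace Cfsg.Agent.QTComp.Cyc

open Subgroup Cfsg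
open Cfsg.Agent.SignalizersComponents.ComponentExists
open Cfsg.Agent.Lib.Cores
open Cfsg.Agent.Omega.Sec.Basic (card_pair mem_of_rank isComm_of)

universe u

variable {G : Type u} [Group G]

/-- In a noncyclic `p`-group, `p` odd, every element of order `p` lies in an elementary abelian subgroup of order at
least `p ^ 2`. -/
theorem exists_elem {P : Type u} [Group P] [Finite P] {p : ℕ} [hpf : Fact p.Prime] (hp : p ≠ 2) (hP : IsPGroup p P)
    (hc : ¬ IsCyclic P) {x : P} (hx : x ^ p = 1) :
    ∃ A : Subgroup P, x ∈ A ∧ (∀ a ∈ A, ∀ b ∈ A, a * b = b * a) ∧ (∀ a ∈ A, a ^ p = 1) ∧ p ^ 2 ≤ Nat.card A := by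
  have hnt : Nontrivial P := by
    by_contra h
    rw [not_nontrivial_iff_subsingleton] at h
    exact hc isCyclic_of_subsingleton
  have hcn : Nontrivial (center P) := hP.center_nontrivial
  obtain ⟨z, hz⟩ : ∃ z : center P, orderOf z = p := by
    have h1 : IsPGroup p (center P) := hP.to_subgroup _
    obtain ⟨n, hn, hcard⟩ := (IsPGroup.nontrivial_iff_card h1).1 hcn
    refine exists_prime_orderOf_dvd_card' p ?_
    rw [hcard]
    exact dvd_pow_self p (by omega)
  have hz1 : (z : P) ≠ 1 := by
    intro h
    have : z = 1 := Subtype.ext h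
    rw [this, orderOf_one] at hz
    exact hpf.out.one_lt.ne hz
  have hzp : (z : P) ^ p = 1 := by
    have h1 : z ^ p = 1 := by rw [← hz]; exact pow_orderOf_eq_one z
    exact congrArg Subtype.val h1
  have hzc : ∀ g : P, (z : P) * g = g * z := fun g => ((mem_center_iff.1 z.2) g).symm
  by_cases hxz : x ∈ zpowers (z : P)
  · -- another subgroup of order `p`
    obtain ⟨y, hy1, hy2⟩ : ∃ y : P, y ^ p = 1 ∧ y ∉ zpowers (z : P) := by
      by_contra hcon
      push Not at hcon
      have hzo : orderOf (z : P) = p := orderOf_eq_prime hzp hz1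
      rcases Cfsg.Agent.S0016.result (G := P) p hP (by
        have key : ∀ H : Subgroup P, Nat.card H = p → H = zpowers (z : P) := by
          intro H hH
          have hle : H ≤ zpowers (z : P) := by
            intro h hh
            apply hcon
            have : (⟨h, hh⟩ : H) ^ Nat.card H = 1 := pow_card_eq_one'
            rw [hH] at this
            exact congrArg Subtype.val this
          refine eq_of_le_of_card_ge hle ?_
          rw [hH, Nat.card_zpowers, hzo]
        intro H K hH hK
        rw [key H hH, key K hK]) with h | ⟨h, -⟩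
      · exact hc h
      · exact hp h
    obtain ⟨h1, h2, h3⟩ := card_pair hzp hz1 hy1 (hzc y) hy2
    refine ⟨closure {(z : P), y}, ?_, h1, h2, h3⟩
    have h4 : zpowers (z : P) ≤ closure {(z : P), y} := by
      rw [zpowers_le]
      exact subset_closure (by simp)
    exact h4 hxz
  · obtain ⟨h1, h2, h3⟩ := card_pair hzp hz1 hx (hzc x) hxz
    exact ⟨closure {(z : P), x}, subset_closure (by simp), h1, h2, h3⟩

/-- A perfect group in which all elements of order `p`, `p` odd, are central is a `p'`-group. -/
theorem subsingleton_sylow_of_central {L : Type u} [Group L] [Finite L] {p : ℕ} [hpf : Fact p.Prime] (hp : p ≠ 2)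
    (hL : commutator L = ⊤) (hc : ∀ x : L, x ^ p = 1 → x ∈ center L) (P : Sylow p L) : Subsingleton P := by
  obtain ⟨N, hN, hNP⟩ := (Cfsg.Agent.S0071.result P).2 (by
    intro Q hQP g hg hgp
    have hQp : IsPGroup p Q := P.isPGroup'.to_le hQP
    set a : MulAut Q := Q.normalizerMonoidHom ⟨g, hg⟩ with ha
    have h1 : a = 1 := by
      refine Cfsg.Agent.S0120.result hp hQp a ?_ ?_
      · refine Nat.Coprime.coprime_dvd_left (orderOf_map_dvd Q.normalizerMonoidHom ⟨g, hg⟩) ?_
        rwa [orderOf_mk]
      · intro x hx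
        apply Subtype.ext
        have h2 : (x : L) ^ p = 1 := congrArg Subtype.val hx
        have h3 := mem_center_iff.1 (hc _ h2) g
        change g * (x : L) * g⁻¹ = x
        rw [h3, mul_inv_cancel_right]
    rw [mem_centralizer_iff]
    intro x hx
    have h2 : ((a ⟨x, hx⟩ : Q) : L) = x := by rw [h1]; rfl
    have h3 : g * x * g⁻¹ = x := h2
    exact (mul_inv_eq_iff_eq_mul.1 h3).symm)
  have hpq : IsPGroup p (L ⧸ N) := P.isPGroup'.of_equiv hNP.symm.QuotientMulEquiv.symm
  have hperf : Group.IsPerfect L := ⟨hL⟩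
  have hq : Group.IsPerfect (L ⧸ N) := inferInstance
  have hsub : Subsingleton (L ⧸ N) := by
    by_contra h
    rw [not_subsingleton_iff_nontrivial] at h
    have : Group.IsNilpotent (L ⧸ N) := hpq.isNilpotent
    exact Group.IsPerfect.not_isNilpotent (L ⧸ N) this
  exact hNP.symm.QuotientMulEquiv.symm.toEquiv.subsingleton

/-- **The odd Sylow subgroups of a non-normal `𝒞`-component are cyclic.** -/
theorem cyclic_sylow [Finite G] {p : ℕ} [hpf : Fact p.Prime] (hp : p ≠ 2) (hr : PRankLE p 2 G) {L : Subgroup G}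
    (hL : ⁅L, L⁆ = L) (g : G) (hcomm : ⁅L, L.map (MulAut.conj g).toMonoidHom⁆ = ⊥) (P : Sylow p L) : IsCyclic P := by
  by_contra hPc
  have hperf : commutator L = ⊤ := (isPerfect_iff.2 hL).commutator_eq_top
  have hcen : ∀ x : L, x ^ p = 1 → x ∈ center L := by
    intro x hx
    -- a Sylow subgroup containing `x`
    have hxp : IsPGroup p (zpowers x) := by
      rintro ⟨y, hy⟩
      refine ⟨1, Subtype.ext ?_⟩
      obtain ⟨k, rfl⟩ := mem_zpowers_iff.1 hy
      rw [pow_one]
      change (x ^ k) ^ p = 1
      rw [← zpow_natCast, ← zpow_mul, mul_comm, zpow_mul, zpow_natCast, hx, one_zpow]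
    obtain ⟨P', hP'⟩ := hxp.exists_le_sylow
    have hxP' : x ∈ P' := hP' (mem_zpowers x)
    have hP'c : ¬ IsCyclic P' := by
      intro h
      let e := P'.equiv P
      exact hPc (isCyclic_of_surjective e.toMonoidHom e.surjective)
    obtain ⟨A, hxA, hA1, hA2, hA3⟩ := exists_elem (P := P') hp P'.isPGroup' hP'c
      (x := ⟨x, hxP'⟩) (Subtype.ext hx)
    -- transport to `G`
    set ι : P' →* G := L.subtype.comp (P' : Subgroup L).subtype with hι
    have hιinj : Function.Injective ι := L.subtype_injective.comp (P' : Subgroup L).subtype_injective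
    set B : Subgroup G := A.map ι with hB
    have hBL : B ≤ L := by
      rintro _ ⟨a, _, rfl⟩
      exact (a : L).2
    have hxB : (x : G) ∈ B := ⟨⟨x, hxP'⟩, hxA, rfl⟩
    have hB1 : ∀ a ∈ B, ∀ b ∈ B, a * b = b * a := by
      rintro _ ⟨a, ha, rfl⟩ _ ⟨b, hb, rfl⟩
      rw [← map_mul, ← map_mul, hA1 a ha b hb]
    have hB2 : ∀ a ∈ B, a ^ p = 1 := by
      rintro _ ⟨a, ha, rfl⟩
      rw [← map_pow, hA2 a ha, map_one]
    have hBcard : Nat.card B = Nat.card A := card_map_of_injective hιinj
    have hB3 : p ^ 2 ≤ Nat.card B := by rw [hBcard]; exact hA3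
    set M := L.map (MulAut.conj g).toMonoidHom with hM
    set C : Subgroup G := B.map (MulAut.conj g).toMonoidHom with hC
    have hCM : C ≤ M := map_mono hBL
    have hLM : ∀ a ∈ L, ∀ b ∈ M, a * b = b * a := by
      intro a ha b hb
      exact ((mem_centralizer_iff.1 (commutator_eq_bot_iff_le_centralizer.1 hcomm ha)) b hb).symm
    have hCB : C ≤ B := by
      rintro _ ⟨b, hb, rfl⟩
      refine mem_of_rank hr hB1 hB2 hB3 (fun a ha => ?_) ?_
      · exact (hLM a (hBL ha) _ (hCM ⟨b, hb, rfl⟩)).symm
      · change ((MulAut.conj g) b) ^ p = 1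
        rw [← map_pow, hB2 b hb, map_one]
    have hCeq : C = B := by
      refine eq_of_le_of_card_ge hCB (le_of_eq ?_)
      exact (card_map_of_injective (K := B) (f := (MulAut.conj g).toMonoidHom) (MulAut.conj g).injective).symm
    have hxM : (x : G) ∈ M := hCM (by rw [hCeq]; exact hxB)
    rw [mem_center_iff]
    intro y
    exact Subtype.ext (hLM y y.2 x hxM)
  have := subsingleton_sylow_of_central hp hperf hcen P
  exact hPc isCyclic_of_subsingleton

/-- **A perfect group with cyclic odd Sylow subgroups and `O_2 = 1`, all of whose proper normal subgroups are solvable,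
is simple.** -/
theorem isSimpleGroup_of_cyclic {X : Type u} [Group X] [Finite X] [Nontrivial X] (hX : commutator X = ⊤)
    (h2 : pCore 2 X = ⊥) (hcyc : ∀ (p : ℕ) (P : Sylow p X), p.Prime → p ≠ 2 → IsCyclic P)
    (hsol : ∀ N : Subgroup X, N.Normal → N ≠ ⊤ → Group.IsSolvable N) : IsSimpleGroup X := by
  have hperf : Group.IsPerfect X := ⟨hX⟩
  -- normal subgroups of prime power order are central
  have hnp : ∀ (r : ℕ), r.Prime → ∀ A : Subgroup X, A.Normal → IsPGroup r A → A ≤ center X := by
    intro r hr A hA hAp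
    by_cases hr2 : r = 2
    · subst hr2
      have h3 := le_pCore hA hAp
      rw [h2, le_bot_iff] at h3
      rw [h3]
      exact bot_le
    have : Fact r.Prime := ⟨hr⟩
    obtain ⟨R, hR⟩ := hAp.exists_le_sylow
    have hRc := hcyc r R hr hr2
    have hAc : IsCyclic A := isCyclic_of_injective (inclusion hR) (inclusion_injective hR)
    have hab : ∀ φ ψ : MulAut A, φ * ψ = ψ * φ := by
      intro φ ψ
      apply (IsCyclic.mulAutMulEquiv A).injective
      rw [map_mul, map_mul, mul_comm]
    set f : X →* MulAut A := MulAut.conjNormal with hf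
    have h3 : commutator X ≤ f.ker := by
      rw [commutator_def, commutator_le]
      intro a _ b _
      rw [MonoidHom.mem_ker, map_commutatorElement, commutatorElement_eq_one_iff_mul_comm]
      exact hab _ _
    intro a ha
    rw [mem_center_iff]
    intro x
    have h4 : x ∈ f.ker := h3 (by rw [hX]; exact mem_top x)
    have h5 := congrArg (fun φ : MulAut A => ((φ ⟨a, ha⟩ : A) : X)) (MonoidHom.mem_ker.1 h4)
    simp only [hf, MulAut.conjNormal_apply, MulAut.one_apply] at h5
    exact mul_inv_eq_iff_eq_mul.1 h5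
  -- the centre is trivial
  have hZ : center X = ⊥ := by
    by_contra hne
    have hcard : Nat.card (center X) ≠ 1 := fun h => hne (eq_bot_of_card_eq _ h)
    obtain ⟨p, hp, hpd⟩ := Nat.exists_prime_and_dvd hcard
    have : Fact p.Prime := ⟨hp⟩
    by_cases hp2 : p = 2
    · subst hp2
      obtain ⟨z, hz⟩ := exists_prime_orderOf_dvd_card' 2 hpd
      have h3 : (zpowers (z : X)).Normal := ⟨fun n hn x => by
        obtain ⟨k, rfl⟩ := mem_zpowers_iff.1 hn
        have h4 : x * (z : X) ^ k = (z : X) ^ k * x := (mem_center_iff.1 ((center X).zpow_mem z.2 k)) x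
        rw [h4, mul_inv_cancel_right]
        exact hn⟩
      have h4 : IsPGroup 2 (zpowers (z : X)) := by
        apply IsPGroup.of_card (n := 1)
        rw [Nat.card_zpowers, pow_one, orderOf_coe, hz]
      have h5 := le_pCore h3 h4
      rw [h2, le_bot_iff, zpowers_eq_bot] at h5
      have h6 : z = 1 := Subtype.ext h5
      rw [h6, orderOf_one] at hz
      exact absurd hz (by norm_num)
    · have h3 : commutator (X ⧸ center X) = ⊤ := (inferInstance : Group.IsPerfect (X ⧸ center X)).commutator_eq_top
      have h4 : ∀ P : Sylow p (X ⧸ center X), IsCyclic P := by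
        intro P
        obtain ⟨P', rfl⟩ := Sylow.mapSurjective_surjective (QuotientGroup.mk'_surjective (center X)) p P
        have := hcyc p P' hp hp2
        exact isCyclic_of_surjective ((QuotientGroup.mk' (center X)).subgroupMap (P' : Subgroup X))
          (MonoidHom.subgroupMap_surjective _ _)
      have h5 := Cfsg.Agent.S0102.result h3 h4 (QuotientGroup.mk' (center X))
        (QuotientGroup.mk'_surjective _) (by rw [QuotientGroup.ker_mk']) hX
      rw [QuotientGroup.ker_mk'] at h5
      exact h5 hpd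
  refine ⟨fun N hN => ?_⟩
  by_cases htop : N = ⊤
  · exact Or.inr htop
  left
  by_contra hne
  have hNs := hsol N hN htop
  have hNt : Nontrivial N := (nontrivial_iff_ne_bot N).2 hne
  obtain ⟨r, hr, A, hAc, hAab, hAp, hAne⟩ :=
    Lib.SolvableMinNormal.exists_characteristic_pgroup (G := N)
  have h3 : (A.map N.subtype).Normal := ConjAct.normal_of_characteristic_of_normal
  have h4 := hnp r hr _ h3 (hAp.map _)
  rw [hZ, le_bot_iff, map_eq_bot_iff_of_injective _ N.subtype_injective] at h4
  exact hAne h4

/-- Three commuting nonabelian simple subgroups whose orders are divisible by the odd prime `p` are impossible if the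
`p`-rank is at most 2. -/
theorem false_of_three [Finite G] {p : ℕ} [hpf : Fact p.Prime] (hr : PRankLE p 2 G) {A B C : Subgroup G}
    (hAB : ⁅A, B⁆ = ⊥) (hAC : ⁅A, C⁆ = ⊥) (hBC : ⁅B, C⁆ = ⊥) (hA : center A = ⊥) (hC : center C = ⊥)
    (hpA : p ∣ Nat.card A) (hpB : p ∣ Nat.card B) (hpC : p ∣ Nat.card C) : False := by
  have com : ∀ {X Y : Subgroup G}, ⁅X, Y⁆ = ⊥ → ∀ x ∈ X, ∀ y ∈ Y, x * y = y * x := by
    intro X Y h x hx y hy
    exact ((mem_centralizer_iff.1 (commutator_eq_bot_iff_le_centralizer.1 h hx)) y hy).symm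
  obtain ⟨a, ha⟩ := exists_prime_orderOf_dvd_card' p hpA
  obtain ⟨b, hb⟩ := exists_prime_orderOf_dvd_card' p hpB
  obtain ⟨c, hc⟩ := exists_prime_orderOf_dvd_card' p hpC
  have pw : ∀ {X : Subgroup G} {x : X}, orderOf x = p → (x : G) ^ p = 1 ∧ (x : G) ≠ 1 := by
    intro X x hx
    constructor
    · have : x ^ p = 1 := by rw [← hx]; exact pow_orderOf_eq_one x
      exact congrArg Subtype.val this
    · intro h
      have : x = 1 := Subtype.ext h
      rw [this, orderOf_one] at hx
      exact hpf.out.one_lt.ne hx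
  have hab : (b : G) ∉ zpowers (a : G) := by
    intro h
    have h1 : (b : G) ∈ A := (zpowers_le.2 a.2) h
    have h2 : (⟨b, h1⟩ : A) ∈ center A := by
      rw [mem_center_iff]
      intro y
      exact Subtype.ext (com hAB y y.2 b b.2)
    rw [hA, mem_bot] at h2
    exact (pw hb).2 (congrArg Subtype.val h2)
  obtain ⟨h1, h2, h3⟩ := card_pair (pw ha).1 (pw ha).2 (pw hb).1 (com hAB a a.2 b b.2) hab
  have hcent : ∀ y ∈ closure ({(a : G), (b : G)} : Set G), ∀ z ∈ C, y * z = z * y := by
    intro y hy z hz
    have h4 : closure ({(a : G), (b : G)} : Set G) ≤ centralizer ({z} : Set G) := by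
      rw [closure_le]
      rintro w (rfl | hw)
      · rw [SetLike.mem_coe, mem_centralizer_singleton_iff]
        exact com hAC a a.2 z hz
      · rw [Set.mem_singleton_iff] at hw
        rw [hw, SetLike.mem_coe, mem_centralizer_singleton_iff]
        exact com hBC b b.2 z hz
    exact mem_centralizer_singleton_iff.1 (h4 hy)
  have h5 := mem_of_rank hr h1 h2 h3 (x := c) (fun y hy => (hcent y hy c c.2).symm) (pw hc).1
  have h6 : c ∈ center C := by
    rw [mem_center_iff]
    intro y
    exact Subtype.ext (hcent c h5 y y.2).symm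
  rw [hC, mem_bot] at h6
  exact (pw hc).2 (congrArg Subtype.val h6)

end Cfsg.Agent.QTComp.Cyc
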