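import Cfsg.Agent.QTComp.Main
import Cfsg.Agent.SporRec.J1.Main

/-!
# `ClassCyc` from the classification of the simple groups with cyclic odd Sylow subgroups
-/

set_option autoImplicit false

namespace Cfsg.Agent.QTComp.CycIn

open Cfsg

universe u

/-- the list of the simple groups with cyclic odd Sylow subgroups, in the form of `OddCyclic.PumpMain.KZero` -/
def KZ (K : Type u) [Group K] : Prop :=
  (∃ (F : Type) (_ : Field F) (_ : Fintype F), (Fintype.card F).Prime ∧ 5 ≤ Fintype.card F ∧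
    Nonempty (K ≃* Matrix.ProjectiveSpecialLinearGroup (Fin 2) F)) ∨
  (∃ (F : Type) (_ : Field F) (_ : Fintype F) (f : ℕ), 2 ≤ f ∧ Fintype.card F = 2 ^ f ∧
    Nonempty (K ≃* Matrix.ProjectiveSpecialLinearGroup (Fin 2) F)) ∨
  Cfsg.Lie.IsoSuzuki K ∨ (Cfsg.Agent.SporRec.J1.Defs.Local K ∧ ∃ k : K, orderOf k = 2)

theorem list_of {X : Type u} [Group X] [Finite X] (h : KZ X) : Main.ListP X := by
  rcases h with ⟨F, i1, i2, h1, h2, h3⟩ | ⟨F, i1, i2, f, h1, h2, h3⟩ | h | ⟨h, k, hk⟩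
  · exact Or.inr (Or.inr (Or.inl ⟨F, i1, i2, h1, by omega, h3⟩))
  · refine Or.inl ⟨F, i1, i2, ?_, h3⟩
    obtain ⟨p, hp⟩ := CharP.exists F
    obtain ⟨n, hpp, hn⟩ := FiniteField.card F p
    have h4 : p ∣ 2 ^ f := by
      rw [← h2, hn]
      exact dvd_pow_self p n.2.ne'
    have h5 : p = 2 := (Nat.prime_dvd_prime_iff_eq hpp Nat.prime_two).1 (hpp.dvd_of_dvd_pow h4)
    rwa [h5] at hp
  · exact Or.inr (Or.inl h)
  · exact Or.inr (Or.inr (Or.inr (Cfsg.Agent.SporRec.J1.Main.iso_of_local h k hk)))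

/-- **`ClassCyc`** from the classification of the simple groups with cyclic odd Sylow subgroups -/
theorem cyc_of (h : ∀ (X : Type u) [Group X] [Finite X] [IsSimpleGroup X],
    (∀ (p : ℕ) (P : Sylow p X), p.Prime → p ≠ 2 → IsCyclic P) → (∃ a b : X, a * b ≠ b * a) → KZ X) :
    Main.ClassCyc.{u} :=
  fun X _ _ _ hna hcyc => list_of (h X hcyc hna)

end Cfsg.Agent.QTComp.CycIn
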