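import Cfsg.Agent.QTComp.CycIn
import Cfsg.Agent.S0205
import Cfsg.Agent.S0342
import Cfsg.Agent.Schreier.Assembly

/-!
# The inputs of S1820

The odd order theorem, the Schreier property of the known simple groups and the simple groups with cyclic odd Sylow
subgroups.
-/

set_option autoImplicit false

namespace Cfsg.Agent.QTComp.Inputs

open Cfsg

universe u

/-- the odd order theorem -/
theorem ft : Quat.FT.{0} := fun X _ _ h => Cfsg.Agent.S0205.result (G := X) h

/-- the Schreier property -/
theorem sch : Main.SchKnown.{u} := Cfsg.Agent.Schreier.Assembly.known.{u}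

/-- simple groups with cyclic odd Sylow subgroups -/
theorem cyc : Main.ClassCyc.{u} :=
  CycIn.cyc_of fun X _ _ _ hcyc hna =>
    Cfsg.Agent.OddCyclic.Main.kzero_of Cfsg.Agent.OddCyclic.Main.base Cfsg.Agent.OddCyclic.Main.comp
      Cfsg.Agent.OddCyclic.Main.cOne (Cfsg.Agent.OddCyclic.Main.Two.two Cfsg.Agent.S0342.leaves) X hcyc hna

end Cfsg.Agent.QTComp.Inputs
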