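import Cfsg.Agent.QTComp.One
import Cfsg.Prelude.Def_Quasithin

/-!
# The `𝒞`-components of a finite K-group with `m_p ≤ 2` for all odd primes `p`

`main` : the three parts of S1820 for an arbitrary finite K-group `H` with `m_p(H) ≤ 2` for all odd primes `p`, from
the odd order theorem, the Schreier property and the classification of simple groups with cyclic odd Sylow subgroups.
-/

set_option autoImplicit false

open scoped commutatorElement

namespace Cfsg.Agent.QTComp.Main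

open Subgroup Cfsg
open Cfsg.Agent.Schreier.Basic (Sch)

universe u

/-- the list in part (3) of S1820 -/
def ListP (X : Type u) [Group X] : Prop :=
  (∃ (F : Type) (_ : Field F) (_ : Fintype F), CharP F 2 ∧
      Nonempty (X ≃* Matrix.ProjectiveSpecialLinearGroup (Fin 2) F)) ∨
    Cfsg.Lie.IsoSuzuki X ∨
    (∃ (F : Type) (_ : Field F) (_ : Fintype F), (Fintype.card F).Prime ∧ Fintype.card F ≠ 2 ∧
      Nonempty (X ≃* Matrix.ProjectiveSpecialLinearGroup (Fin 2) F)) ∨
    Cfsg.Spor.IsoJ1 X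

/-- the Schreier property of the known simple groups -/
def SchKnown : Prop :=
  ∀ (K : Type u) [Group K] [Finite K] [IsSimpleGroup K], ¬ IsMulCommutative K → IsKnownSimple' K → Sch K

/-- simple groups with cyclic odd Sylow subgroups -/
def ClassCyc : Prop :=
  ∀ (X : Type u) [Group X] [Finite X] [IsSimpleGroup X], (∃ a b : X, a * b ≠ b * a) →
    (∀ (p : ℕ) (P : Sylow p X), p.Prime → p ≠ 2 → IsCyclic P) → ListP X

variable {H : Type u} [Group H]

/-- perfect subgroups normalise `𝒞`-components -/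
theorem le_normalizer_of_perfect (hFT : Quat.FT.{0}) [Finite H] (hr : ∀ p : ℕ, p.Prime → p ≠ 2 → PRankLE p 2 H)
    {L : Subgroup H} (hL : L ∈ calC H) {P : Subgroup H} (hP : ⁅P, P⁆ = P) : P ≤ normalizer (L : Set H) := by
  by_cases hn : L.Normal
  · rw [normalizer_eq_top_iff.2 hn]
    exact le_top
  · have h1 := (Three.three hFT hr hL hn).1
    set N := normalizer (L : Set H) with hN
    have hNn : N.Normal := normal_of_index_eq_two h1
    have h2 : Nat.card (H ⧸ N) = 2 := h1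
    have : Fact (Nat.Prime 2) := ⟨Nat.prime_two⟩
    have hc : IsCyclic (H ⧸ N) := isCyclic_of_prime_card h2
    rw [← hP, commutator_le]
    intro a _ b _
    rw [← QuotientGroup.eq_one_iff]
    have h3 : ((⁅a, b⁆ : H) : H ⧸ N) = ⁅(a : H ⧸ N), (b : H ⧸ N)⁆ := rfl
    rw [h3, commutatorElement_eq_one_iff_mul_comm]
    exact hc.isMulCommutative.is_comm.comm _ _

/-- **Part (1).** -/
theorem one (hFT : Quat.FT.{0}) (hS : SchKnown.{u}) [Finite H] (hr : ∀ p : ℕ, p.Prime → p ≠ 2 → PRankLE p 2 H)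
    (hK : IsKGroup H) : sSup (calC H) = perfectCore H := by
  refine One.sSup_eq (fun L hL P hP => le_normalizer_of_perfect hFT hr hL hP) ?_
  intro L N _ hs hna
  exact hS (L ⧸ N) hna (hK L N hs hna)

/-- **Part (3).** -/
theorem three (hFT : Quat.FT.{0}) (hC : ClassCyc.{u}) [Finite H] (hr : ∀ p : ℕ, p.Prime → p ≠ 2 → PRankLE p 2 H)
    {L : Subgroup H} (hL : L ∈ calC H) :
    L.Normal ∨ ((normalizer (L : Set H)).index = 2 ∧ ListP (↥L ⧸ pCore 2 ↥L)) := by
  by_cases hn : L.Normal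
  · exact Or.inl hn
  right
  obtain ⟨h1, h2, h3⟩ := Three.three hFT hr hL hn
  refine ⟨h1, hC (↥L ⧸ pCore 2 ↥L) ?_ h3⟩
  have hperf : Group.IsPerfect L := isPerfect_iff.2 hL.2.1
  have h4 : ¬ IsMulCommutative (↥L ⧸ pCore 2 ↥L) :=
    Group.IsPerfect.not_isMulCommutative (↥L ⧸ pCore 2 ↥L)
  by_contra hcon
  push Not at hcon
  exact h4 ⟨⟨hcon⟩⟩

/-- **The three parts of S1820**, for a finite K-group with `m_p ≤ 2` for all odd primes `p`. -/
theorem main (hFT : Quat.FT.{0}) (hS : SchKnown.{u}) (hC : ClassCyc.{u}) [Finite H]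
    (hr : ∀ p : ℕ, p.Prime → p ≠ 2 → PRankLE p 2 H) (hK : IsKGroup H) :
    sSup (calC H) = perfectCore H ∧
    (∀ L₁ ∈ calC H, ∀ L₂ ∈ calC H, L₁ ≠ L₂ →
        ⁅L₁, L₂⁆ ≤ (pCore 2 ↥L₁).map L₁.subtype ⊓ (pCore 2 ↥L₂).map L₂.subtype ∧
        (pCore 2 ↥L₁).map L₁.subtype ⊓ (pCore 2 ↥L₂).map L₂.subtype ≤ pCore 2 H) ∧
    (∀ L ∈ calC H, L.Normal ∨ ((normalizer (L : Set H)).index = 2 ∧ ListP (↥L ⧸ pCore 2 ↥L))) :=
  ⟨one hFT hS hr hK, fun _ h1 _ h2 hne => Two.commutator_le hFT hr h1 h2 hne, fun _ hL => three hFT hC hr hL⟩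

/-- subgroups with nontrivial 2-core of a simple quasithin K-proper group -/
theorem of_calH {G : Type u} [Group G] [Finite G] [IsSimpleGroup G] (hG : ¬ IsMulCommutative G)
    (hQ : IsQuasithin G) (hK : IsKProper G) {X : Subgroup G} (hX : X ∈ calH G) :
    (∀ p : ℕ, p.Prime → p ≠ 2 → PRankLE p 2 ↥X) ∧ IsKGroup ↥X := by
  have hX' : pCore 2 ↥X ≠ ⊥ := hX
  set T : Subgroup G := (pCore 2 ↥X).map X.subtype with hT
  have hTne : T ≠ ⊥ := by
    intro h
    rw [hT, map_eq_bot_iff_of_injective _ X.subtype_injective] at h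
    exact hX' h
  have hTp : IsPGroup 2 T := (Lib.Cores.pCore_isPGroup (G := X) 2).map _
  have hXT : X ≤ normalizer (T : Set G) := by
    have hn := Lib.Cores.pCore_normal (G := X) 2
    rw [le_normalizer_iff]
    rintro x hx _ ⟨t, ht, rfl⟩
    exact ⟨⟨x, hx⟩ * t * ⟨x, hx⟩⁻¹, hn.conj_mem t ht ⟨x, hx⟩, rfl⟩
  constructor
  · intro p hp hp2
    have h1 : PRankLE p 2 ↥(normalizer (T : Set G)) := hQ p hp hp2 _ ⟨T, hTp, hTne, rfl⟩
    have h2 := Cfsg.Agent.Omega.Sec.Faithful.prankLE_subgroup h1 (X.subgroupOf (normalizer (T : Set G)))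
    intro A hA hAp
    have e := subgroupOfEquivOfLe hXT
    have h3 := h2 (A.map e.symm.toMonoidHom) ⟨⟨by
      rintro ⟨_, x, hx, rfl⟩ ⟨_, y, hy, rfl⟩
      apply Subtype.ext
      change e.symm x * e.symm y = e.symm y * e.symm x
      rw [← map_mul, ← map_mul]
      congr 1
      exact congrArg Subtype.val (hA.is_comm.comm (⟨x, hx⟩ : A) ⟨y, hy⟩)⟩⟩ (by
      rintro _ ⟨x, hx, rfl⟩
      change (e.symm x) ^ p = 1
      rw [← map_pow, hAp x hx, map_one])
    rwa [card_map_of_injective (f := e.symm.toMonoidHom) e.symm.injective] at h3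
  · refine hK X fun htop => ?_
    -- `G` is not a 2-group
    have hTn : T.Normal := by
      rw [← normalizer_eq_top_iff, eq_top_iff, ← htop]
      exact hXT
    rcases hTn.eq_bot_or_eq_top with h | h
    · exact hTne h
    · have hGp : IsPGroup 2 G := by
        rw [h] at hTp
        exact hTp.of_equiv topEquiv
      have : Fact (Nat.Prime 2) := ⟨Nat.prime_two⟩
      have : Group.IsNilpotent G := hGp.isNilpotent
      have hc := IsSimpleGroup.comm_iff_isSolvable (G := G).2 inferInstance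
      exact hG ⟨⟨hc⟩⟩

end Cfsg.Agent.QTComp.Main
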